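import Groth.Agent.L02.CycCover.Poly
import Groth.Agent.L18.AffineAlgExtend
import Groth.Agent.L18.Frame
import Mathlib.AlgebraicGeometry.Morphisms.QuasiSeparated
import Mathlib.AlgebraicGeometry.Noetherian

/-!
# The cyclic cover defined by a cocycle `g` and units `θ_i` with `θ_i = g_ij^d θ_j`
-/

set_option autoImplicit false
set_option linter.style.haveILetI false

universe u

open CategoryTheory CategoryTheory.Limits AlgebraicGeometry TopologicalSpace Opposite
open Groth.L18.Frame (ro ro_ro ro_self ro_mul)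

noncomputable section

namespace Groth.L02.CycCover

variable (X : Scheme.{u})

/-- The input of the construction. -/
structure Input where
  ι : Type u
  fin : Finite ι
  W : ι → X.Opens
  cover : ∀ x : X, ∃ i, x ∈ W i
  d : ℕ
  hd : 0 < d
  θ : ∀ i, Γ(X, W i)
  hθ : ∀ i, IsUnit (θ i)
  g : ∀ i j, Γ(X, W i ⊓ W j)
  hgθ : ∀ i j, ro inf_le_left (θ i) = g i j ^ d * ro inf_le_right (θ j)
  g_self : ∀ i, g i i = 1
  g_comp : ∀ i j k, ro (le_inf (inf_le_left.trans inf_le_left) (inf_le_left.trans inf_le_right) :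
      (W i ⊓ W j) ⊓ W k ≤ W i ⊓ W j) (g i j) *
    ro (le_inf (inf_le_left.trans inf_le_right) inf_le_right : (W i ⊓ W j) ⊓ W k ≤ W j ⊓ W k) (g j k) =
    ro (le_inf (inf_le_left.trans inf_le_left) inf_le_right : (W i ⊓ W j) ⊓ W k ≤ W i ⊓ W k) (g i k)

variable {X} (I : Input X)

namespace Input

/-- The algebra over an open inside `W i`. -/
abbrev Q (i : I.ι) (V : X.Opens) (h : V ≤ I.W i) : Type u := Ring' I.d (ro h (I.θ i) : Γ(X, V))

/-- The transition maps. -/
def mp (i j : I.ι) {V V' : X.Opens} (h : V ≤ I.W i) (h' : V' ≤ I.W j) (hV : V' ≤ V) : I.Q i V h →+* I.Q j V' h' :=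
  bc (X.presheaf.map (homOfLE hV).op).hom (ro (le_inf (hV.trans h) h') (I.g i j)) (by
    show ro hV (ro h (I.θ i)) = _
    have h1 := congrArg (ro (le_inf (hV.trans h) h' : V' ≤ I.W i ⊓ I.W j)) (I.hgθ i j)
    rw [ro_mul, ro_ro, ro_ro] at h1
    rw [ro_ro, h1]
    congr 1
    exact map_pow _ _ _)

theorem mp_of (i j : I.ι) {V V' : X.Opens} (h : V ≤ I.W i) (h' : V' ≤ I.W j) (hV : V' ≤ V) (a : Γ(X, V)) :
    I.mp i j h h' hV (AdjoinRoot.of _ a) = AdjoinRoot.of _ (ro hV a) := bc_of _ _ _ _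

theorem mp_root (i j : I.ι) {V V' : X.Opens} (h : V ≤ I.W i) (h' : V' ≤ I.W j) (hV : V' ≤ V) :
    I.mp i j h h' hV (AdjoinRoot.root _) = AdjoinRoot.of _ (ro (le_inf (hV.trans h) h') (I.g i j)) * AdjoinRoot.root _ :=
  bc_root _ _ _

theorem mp_mp (i j k : I.ι) {V V' V'' : X.Opens} (h : V ≤ I.W i) (h' : V' ≤ I.W j) (h'' : V'' ≤ I.W k) (hV : V' ≤ V)
    (hV' : V'' ≤ V') (a : I.Q i V h) :
    I.mp j k h' h'' hV' (I.mp i j h h' hV a) = I.mp i k h h'' (hV'.trans hV) a := by
  refine bc_comp _ _ _ _ _ _ _ _ _ (fun b => ro_ro hV hV' b) ?_ a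
  show _ = ro hV' (ro _ (I.g i j)) * _
  rw [ro_ro]
  have hk : V'' ≤ (I.W i ⊓ I.W j) ⊓ I.W k := le_inf (le_inf ((hV'.trans hV).trans h) (hV'.trans h')) h''
  have h1 := congrArg (ro hk) (I.g_comp i j k)
  rw [ro_mul, ro_ro, ro_ro, ro_ro] at h1
  exact h1.symm

theorem mp_self (i : I.ι) {V : X.Opens} (h h' : V ≤ I.W i) (hV : V ≤ V) (a : I.Q i V h) : I.mp i i h h' hV a = a := by
  refine bc_eq_self _ _ _ (fun b => ro_self hV b) ?_ a
  rw [I.g_self]; exact map_one _

/-- The compatible families. -/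
def alg (V : X.Opens) : Subring (∀ i, I.Q i (V ⊓ I.W i) inf_le_right) :=
  ⨅ i, ⨅ j, RingHom.eqLocus
    ((I.mp i j inf_le_right (inf_le_right.trans inf_le_right : V ⊓ (I.W i ⊓ I.W j) ≤ I.W j)
      (inf_le_inf_left V inf_le_left)).comp (Pi.evalRingHom _ i))
    ((I.mp j j inf_le_right (inf_le_right.trans inf_le_right : V ⊓ (I.W i ⊓ I.W j) ≤ I.W j)
      (inf_le_inf_left V inf_le_right)).comp (Pi.evalRingHom _ j))

theorem mem_alg {V : X.Opens} {a : ∀ i, I.Q i (V ⊓ I.W i) inf_le_right} :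
    a ∈ I.alg V ↔ ∀ i j,
      I.mp i j inf_le_right (inf_le_right.trans inf_le_right) (inf_le_inf_left V inf_le_left) (a i) =
        I.mp j j inf_le_right (inf_le_right.trans inf_le_right : V ⊓ (I.W i ⊓ I.W j) ≤ I.W j)
          (inf_le_inf_left V inf_le_right) (a j) := by
  simp only [alg, Subring.mem_iInf]
  rfl

/-- The structure map. -/
def strHom (V : X.Opens) : Γ(X, V) →+* I.alg V :=
  RingHom.codRestrict (Pi.ringHom fun i => (AdjoinRoot.of _).comp
    (X.presheaf.map (homOfLE (inf_le_left : V ⊓ I.W i ≤ V)).op).hom) (I.alg V) fun a => by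
    refine (I.mem_alg).2 fun i j => ?_
    show I.mp _ _ _ _ _ (AdjoinRoot.of _ (ro _ a)) = I.mp _ _ _ _ _ (AdjoinRoot.of _ (ro _ a))
    rw [mp_of, mp_of, ro_ro, ro_ro]

theorem strHom_apply (V : X.Opens) (a : Γ(X, V)) (i : I.ι) :
    (I.strHom V a).1 i = AdjoinRoot.of _ (ro inf_le_left a) := rfl

/-- Restriction. -/
def resHom {U V : X.Opens} (h : V ≤ U) : I.alg U →+* I.alg V :=
  RingHom.codRestrict (Pi.ringHom fun i => ((I.mp i i inf_le_right inf_le_right (inf_le_inf_right _ h)).comp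
    (Pi.evalRingHom _ i)).comp (I.alg U).subtype) (I.alg V) fun a => by
    refine (I.mem_alg).2 fun i j => ?_
    show I.mp i j _ _ _ (I.mp i i _ _ _ (a.1 i)) = I.mp j j _ _ _ (I.mp j j _ _ _ (a.1 j))
    rw [mp_mp, mp_mp]
    have h1 := (I.mem_alg).1 a.2 i j
    have h2 := congrArg (I.mp j j (inf_le_right.trans inf_le_right) (inf_le_right.trans inf_le_right)
      (inf_le_inf_right _ h : V ⊓ (I.W i ⊓ I.W j) ≤ U ⊓ (I.W i ⊓ I.W j))) h1
    rwa [mp_mp, mp_mp] at h2

theorem resHom_apply {U V : X.Opens} (h : V ≤ U) (a : I.alg U) (i : I.ι) :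
    (I.resHom h a).1 i = I.mp i i inf_le_right inf_le_right (inf_le_inf_right _ h) (a.1 i) := rfl

section Localization

variable {i : I.ι} {V V' : X.Opens} (h : V ≤ I.W i) (h' : V' ≤ I.W i) (hc : IsCompact (V : Set X))
  (hs : IsQuasiSeparated (V : Set X)) (r : Γ(X, V))

include hc hs in
theorem mp_injective (e : V' = X.basicOpen r) (hV : V' ≤ V) (a : I.Q i V h) (ha : I.mp i i h h' hV a = 0) :
    ∃ n : ℕ, AdjoinRoot.of _ r ^ n * a = 0 := by
  subst e
  letI := (X.presheaf.map (homOfLE hV).op).hom.toAlgebra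
  haveI : IsLocalization.Away r Γ(X, X.basicOpen r) := isLocalization_basicOpen_of_qcqs hc hs r
  have h1 : algebraMap Γ(X, V) Γ(X, X.basicOpen r) (ro h (I.θ i)) = (1 : Γ(X, X.basicOpen r)) ^ I.d * ro h' (I.θ i) := by
    rw [one_pow, one_mul]; exact ro_ro h hV _
  refine bc_injective_away r I.hd h1 a ?_
  refine Eq.trans ?_ ha
  refine RingHom.congr_fun (hom_ext' (fun b => ?_) ?_) a
  · rw [bc_of, mp_of]; rfl
  · rw [bc_root, mp_root, I.g_self]
    congr 2
    exact (map_one _).symm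

include hc hs in
theorem mp_surjective (e : V' = X.basicOpen r) (hV : V' ≤ V) (b : I.Q i V' h') :
    ∃ (n : ℕ) (a : I.Q i V h), AdjoinRoot.of _ (ro hV r) ^ n * b = I.mp i i h h' hV a := by
  subst e
  letI := (X.presheaf.map (homOfLE hV).op).hom.toAlgebra
  haveI : IsLocalization.Away r Γ(X, X.basicOpen r) := isLocalization_basicOpen_of_qcqs hc hs r
  have h1 : algebraMap Γ(X, V) Γ(X, X.basicOpen r) (ro h (I.θ i)) = (1 : Γ(X, X.basicOpen r)) ^ I.d * ro h' (I.θ i) := by
    rw [one_pow, one_mul]; exact ro_ro h hV _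
  obtain ⟨n, a, ha⟩ := bc_surjective_away r h1 b
  refine ⟨n, a, Eq.trans ha ?_⟩
  refine RingHom.congr_fun (hom_ext' (fun c => ?_) ?_) a
  · rw [bc_of, mp_of]; rfl
  · rw [bc_root, mp_root, I.g_self]
    congr 2
    exact (map_one _).symm

end Localization

/-- Projection to a chart. -/
def proj (i : I.ι) {U : X.Opens} (h : U ≤ I.W i) : I.alg U →+* I.Q i U h :=
  ((I.mp i i inf_le_right h (le_inf le_rfl h)).comp (Pi.evalRingHom _ i)).comp (I.alg U).subtype

theorem proj_apply (i : I.ι) {U : X.Opens} (h : U ≤ I.W i) (a : I.alg U) :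
    I.proj i h a = I.mp i i inf_le_right h (le_inf le_rfl h) (a.1 i) := rfl

theorem proj_bijective (i : I.ι) {U : X.Opens} (h : U ≤ I.W i) : Function.Bijective (I.proj i h) := by
  refine ⟨fun a b hab => ?_, fun b => ?_⟩
  · refine Subtype.ext (funext fun j => ?_)
    have key : ∀ c : I.alg U, c.1 j = I.mp i j h inf_le_right inf_le_left (I.proj i h c) := fun c => by
      rw [proj_apply, mp_mp]
      have h1 := congrArg (I.mp j j (inf_le_right.trans inf_le_right : U ⊓ (I.W i ⊓ I.W j) ≤ I.W j)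
        (inf_le_right : U ⊓ I.W j ≤ I.W j) (le_inf inf_le_left (le_inf (inf_le_left.trans h) inf_le_right)))
        ((I.mem_alg).1 c.2 i j)
      rw [mp_mp, mp_mp, mp_self] at h1
      exact h1.symm
    rw [key a, key b, hab]
  · refine ⟨⟨fun j => I.mp i j h inf_le_right inf_le_left b, (I.mem_alg).2 fun j k => ?_⟩, ?_⟩
    · rw [mp_mp, mp_mp]
    · rw [proj_apply, mp_mp, mp_self]

theorem proj_str (i : I.ι) {U : X.Opens} (h : U ≤ I.W i) (a : Γ(X, U)) :
    I.proj i h (I.strHom U a) = AdjoinRoot.of _ a := by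
  rw [proj_apply, strHom_apply, mp_of, ro_ro, ro_self]

theorem proj_res (i j : I.ι) {U V : X.Opens} (h : U ≤ I.W i) (h' : V ≤ I.W j) (hV : V ≤ U) (a : I.alg U) :
    I.proj j h' (I.resHom hV a) = I.mp i j h h' hV (I.proj i h a) := by
  rw [proj_apply, resHom_apply, proj_apply, mp_mp, mp_mp]
  have hV' : V ≤ U ⊓ (I.W i ⊓ I.W j) := le_inf hV (le_inf (hV.trans h) h')
  have h1 := congrArg (I.mp j j (inf_le_right.trans inf_le_right : U ⊓ (I.W i ⊓ I.W j) ≤ I.W j) h' hV')
    ((I.mem_alg).1 a.2 i j)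
  rw [mp_mp, mp_mp] at h1
  exact h1.symm

variable [AlgebraicGeometry.IsNoetherian X]

theorem isLoc (U : X.Opens) (r : Γ(X, U)) :
    letI := (I.resHom (X.basicOpen_le r)).toAlgebra
    IsLocalization.Away (I.strHom U r) (I.alg (X.basicOpen r)) := by
  classical
  haveI := I.fin
  haveI := Fintype.ofFinite I.ι
  have qc : ∀ V : X.Opens, IsCompact (V : Set X) := fun V => NoetherianSpace.isCompact _
  have qs : ∀ V : X.Opens, IsQuasiSeparated (V : Set X) :=
    fun V => fun _ _ _ _ _ _ _ _ => NoetherianSpace.isCompact _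
  have hb : ∀ {V : X.Opens} (hV : V ≤ U), X.basicOpen r ⊓ V = X.basicOpen (ro hV r) := fun {V} hV => by
    rw [inf_comm]; exact (X.basicOpen_res r (homOfLE hV).op).symm
  have hu : ∀ {V : X.Opens} (hV : V ≤ U) (hb' : V ≤ X.basicOpen r), IsUnit (ro hV r) := fun {V} hV hb' => by
    have h1 : IsUnit (ro (X.basicOpen_le r) r) := RingedSpace.isUnit_res_basicOpen _ r
    have h2 := h1.map (X.presheaf.map (homOfLE hb').op).hom
    exact (ro_ro (X.basicOpen_le r) hb' r) ▸ h2
  letI := (I.resHom (X.basicOpen_le r)).toAlgebra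
  refine { map_units := ?_, surj := ?_, exists_of_eq := ?_ }
  · rintro ⟨_, n, rfl⟩
    show IsUnit (I.resHom (X.basicOpen_le r) (I.strHom U r ^ n))
    rw [map_pow]
    refine IsUnit.pow n ?_
    have h1 : IsUnit (I.strHom (X.basicOpen r) (ro (X.basicOpen_le r) r)) :=
      (RingedSpace.isUnit_res_basicOpen _ r).map _
    have h2 : I.resHom (X.basicOpen_le r) (I.strHom U r) = I.strHom (X.basicOpen r) (ro (X.basicOpen_le r) r) := by
      refine Subtype.ext (funext fun i => ?_)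
      rw [resHom_apply, strHom_apply, strHom_apply, mp_of, ro_ro, ro_ro]
    rw [h2]; exact h1
  · intro b
    have hi : ∀ i, ∃ (n : ℕ) (a : I.Q i (U ⊓ I.W i) inf_le_right),
        AdjoinRoot.of _ (ro ((inf_le_inf_right _ (X.basicOpen_le r)).trans inf_le_left) r) ^ n * b.1 i =
          I.mp i i inf_le_right inf_le_right (inf_le_inf_right _ (X.basicOpen_le r)) a := fun i => by
      obtain ⟨n, a, ha⟩ := I.mp_surjective (inf_le_right : U ⊓ I.W i ≤ I.W i)
        (inf_le_right : X.basicOpen r ⊓ I.W i ≤ I.W i) (qc _) (qs _) (ro inf_le_left r)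
        (by rw [← hb inf_le_left, ← inf_assoc (X.basicOpen r) U, inf_eq_left.2 (X.basicOpen_le r)])
        (inf_le_inf_right _ (X.basicOpen_le r)) (b.1 i)
      refine ⟨n, a, ?_⟩
      rw [ro_ro] at ha
      exact ha
    choose n a ha using hi
    let N := ∑ i, n i
    have hN : ∀ i, n i ≤ N := fun i => Finset.single_le_sum (f := n) (fun _ _ => Nat.zero_le _) (Finset.mem_univ i)
    let a' : ∀ i, I.Q i (U ⊓ I.W i) inf_le_right := fun i => AdjoinRoot.of _ (ro inf_le_left r) ^ (N - n i) * a i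
    have ha' : ∀ i, I.mp i i inf_le_right inf_le_right (inf_le_inf_right _ (X.basicOpen_le r)) (a' i) =
        AdjoinRoot.of _ (ro ((inf_le_inf_right _ (X.basicOpen_le r)).trans inf_le_left) r) ^ N * b.1 i := fun i => by
      rw [map_mul, map_pow, mp_of, ro_ro, ← ha i, ← mul_assoc, ← pow_add, Nat.sub_add_cancel (hN i)]
    clear_value a'
    have hij : ∀ i j, ∃ m : ℕ,
        AdjoinRoot.of _ (ro (inf_le_left : U ⊓ (I.W i ⊓ I.W j) ≤ U) r) ^ m *
          (I.mp i j inf_le_right (inf_le_right.trans inf_le_right) (inf_le_inf_left U inf_le_left) (a' i) -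
            I.mp j j inf_le_right (inf_le_right.trans inf_le_right : U ⊓ (I.W i ⊓ I.W j) ≤ I.W j)
              (inf_le_inf_left U inf_le_right) (a' j)) = 0 := fun i j => by
      refine I.mp_injective (inf_le_right.trans inf_le_right : U ⊓ (I.W i ⊓ I.W j) ≤ I.W j)
        (inf_le_right.trans inf_le_right : X.basicOpen r ⊓ (I.W i ⊓ I.W j) ≤ I.W j) (qc _) (qs _) _
        (by rw [← hb inf_le_left, ← inf_assoc (X.basicOpen r) U, inf_eq_left.2 (X.basicOpen_le r)])
        (inf_le_inf_right _ (X.basicOpen_le r)) _ ?_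
      rw [map_sub, sub_eq_zero, mp_mp, mp_mp]
      have e1 := congrArg (I.mp i j inf_le_right (inf_le_right.trans inf_le_right)
        (inf_le_inf_left (X.basicOpen r) (inf_le_left : I.W i ⊓ I.W j ≤ I.W i))) (ha' i)
      have e2 := congrArg (I.mp j j inf_le_right (inf_le_right.trans inf_le_right)
        (inf_le_inf_left (X.basicOpen r) (inf_le_right : I.W i ⊓ I.W j ≤ I.W j))) (ha' j)
      rw [mp_mp, map_mul, map_pow, mp_of, ro_ro] at e1 e2
      rw [e1, e2, (I.mem_alg).1 b.2 i j]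
    choose m hm using hij
    let M := ∑ p : I.ι × I.ι, m p.1 p.2
    have hM : ∀ i j, m i j ≤ M := fun i j =>
      Finset.single_le_sum (f := fun p : I.ι × I.ι => m p.1 p.2) (fun _ _ => Nat.zero_le _) (Finset.mem_univ (i, j))
    let A : I.alg U := ⟨fun i => AdjoinRoot.of _ (ro inf_le_left r) ^ M * a' i, (I.mem_alg).2 fun i j => by
      simp only [map_mul, map_pow, mp_of, ro_ro]
      obtain ⟨c, hc⟩ := Nat.exists_eq_add_of_le (hM i j)
      rw [← sub_eq_zero, ← mul_sub, hc, pow_add, mul_comm (_ ^ m i j), mul_assoc, hm i j, mul_zero]⟩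
    refine ⟨(A, ⟨I.strHom U r ^ (M + N), M + N, rfl⟩), ?_⟩
    rw [RingHom.algebraMap_toAlgebra, map_pow]
    refine Subtype.ext (funext fun i => ?_)
    rw [Subring.coe_mul, SubmonoidClass.coe_pow, Pi.mul_apply, Pi.pow_apply, resHom_apply, resHom_apply, strHom_apply]
    show _ = I.mp i i _ _ _ (AdjoinRoot.of _ (ro inf_le_left r) ^ M * a' i)
    rw [map_mul, ha', map_pow, mp_of, ro_ro, pow_add]
    ring
  · intro x y hxy
    have hi : ∀ i, ∃ n : ℕ, AdjoinRoot.of _ (ro (inf_le_left : U ⊓ I.W i ≤ U) r) ^ n * (x.1 i - y.1 i) = 0 := fun i => by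
      refine I.mp_injective inf_le_right (inf_le_right : X.basicOpen r ⊓ I.W i ≤ I.W i) (qc _) (qs _) _
        (by rw [← hb inf_le_left, ← inf_assoc (X.basicOpen r) U, inf_eq_left.2 (X.basicOpen_le r)])
        (inf_le_inf_right _ (X.basicOpen_le r)) _ ?_
      rw [map_sub, sub_eq_zero]
      exact congrFun (congrArg Subtype.val hxy) i
    choose n hn using hi
    refine ⟨⟨I.strHom U r ^ ∑ i, n i, _, rfl⟩, Subtype.ext (funext fun i => ?_)⟩
    show AdjoinRoot.of _ (ro _ r) ^ _ * x.1 i = AdjoinRoot.of _ (ro _ r) ^ _ * y.1 i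
    obtain ⟨c, hc⟩ := Nat.exists_eq_add_of_le (Finset.single_le_sum (f := n) (fun _ _ => Nat.zero_le _) (Finset.mem_univ i))
    rw [← sub_eq_zero, ← mul_sub, hc, pow_add, mul_comm (_ ^ n i), mul_assoc, hn i, mul_zero]

/-- The algebra data. -/
def data : Groth.L18.AlgExt.Data X where
  obj U _ := CommRingCat.of (I.alg U)
  res _ _ h := CommRingCat.ofHom (I.resHom h)
  res_id _ := by
    refine CommRingCat.hom_ext (RingHom.ext fun a => Subtype.ext (funext fun i => ?_))
    exact I.mp_self i _ _ _ (a.1 i)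
  res_comp _ _ _ h h' := by
    refine CommRingCat.hom_ext (RingHom.ext fun a => Subtype.ext (funext fun i => ?_))
    exact I.mp_mp i i i _ _ _ _ _ (a.1 i)
  str U _ := CommRingCat.ofHom (I.strHom U)
  str_res {U V} _ _ h := by
    refine CommRingCat.hom_ext (RingHom.ext fun a => Subtype.ext (funext fun i => ?_))
    show (I.resHom h (I.strHom U a)).1 i = (I.strHom V (ro h a)).1 i
    rw [resHom_apply, strHom_apply, strHom_apply, mp_of, ro_ro, ro_ro]
  isLoc U _ r := I.isLoc U r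

end Input

end Groth.L02.CycCover
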