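import Groth.Agent.L02.CycCover.Basic
import Groth.Prelude.Def_Mor2
import Mathlib.AlgebraicGeometry.Morphisms.Etale
import Mathlib.AlgebraicGeometry.Morphisms.Finite
import Mathlib.AlgebraicGeometry.Morphisms.FlatRank
import Mathlib.RingTheory.RingHom.Etale

/-!
# The cyclic cover is finite locally free of degree `d`
-/

set_option autoImplicit false
set_option linter.style.haveILetI false

universe u

open CategoryTheory CategoryTheory.Limits AlgebraicGeometry TopologicalSpace Opposite
open Groth.L18.Frame (ro ro_ro ro_self ro_mul)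

noncomputable section

namespace Groth.L02.CycCover.Input

variable {X : Scheme.{u}} (I : Input X) [AlgebraicGeometry.IsNoetherian X]

/-- The cover. -/
abbrev cov : Scheme.{u} := I.data.space

/-- Its structure map. -/
def π : I.cov ⟶ X := I.data.p

theorem exists_nhd (x : X) : ∃ (U : X.Opens) (i : I.ι), IsAffineOpen U ∧ x ∈ U ∧ U ≤ I.W i := by
  obtain ⟨i, hi⟩ := I.cover x
  obtain ⟨U, hU, hxU, hUW⟩ := exists_isAffineOpen_mem_and_subset hi
  exact ⟨U, i, hU, hxU, hUW⟩

/-- The algebra of a chart. -/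
def evq (i : I.ι) {U : X.Opens} (hU : IsAffineOpen U) (h : U ≤ I.W i) :
    I.data.obj U hU ≅ CommRingCat.of (I.Q i U h) :=
  (RingEquiv.ofBijective (I.proj i h) (I.proj_bijective i h)).toCommRingCatIso

theorem str_evq (i : I.ι) {U : X.Opens} (hU : IsAffineOpen U) (h : U ≤ I.W i) :
    I.data.str U hU ≫ (I.evq i hU h).hom = CommRingCat.ofHom (algebraMap Γ(X, U) (I.Q i U h)) := by
  refine CommRingCat.hom_ext (RingHom.ext fun a => ?_)
  exact (I.proj_str i h a).trans (RingHom.congr_fun (AdjoinRoot.algebraMap_eq _).symm a)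

theorem isPullback_chart {U : X.Opens} (hU : IsAffineOpen U) :
    IsPullback (Spec.map (I.data.str U hU)) (I.data.chart U hU) hU.fromSpec I.π :=
  IsOpenImmersion.isPullback _ _ _ _ (I.data.chart_p U hU)
    (by rw [hU.opensRange_fromSpec]; exact I.data.p_preimage U hU)

/-- A property local on the target holds if it holds for the charts. -/
theorem prop_π (P : MorphismProperty Scheme.{u}) [IsZariskiLocalAtTarget P] [P.RespectsIso]
    (hP : ∀ (i : I.ι) (U : X.Opens), IsAffineOpen U → ∀ h : U ≤ I.W i,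
      P (Spec.map (CommRingCat.ofHom (algebraMap Γ(X, U) (I.Q i U h))))) : P I.π := by
  choose U i hU hxU hUW using I.exists_nhd
  refine IsZariskiLocalAtTarget.of_iSup_eq_top U
    (top_le_iff.1 fun x _ => Opens.mem_iSup.2 ⟨x, hxU x⟩) fun x => ?_
  have hpb := (I.isPullback_chart (hU x)).flip
  have h1 : P (Spec.map (I.data.str (U x) (hU x))) := by
    have h := hP (i x) (U x) (hU x) (hUW x)
    rw [← I.str_evq (i x) (hU x) (hUW x), Spec.map_comp] at h
    exact (P.cancel_left_of_respectsIso _ _).1 h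
  have h2 : P (pullback.snd I.π (hU x).fromSpec) := by
    rw [← hpb.isoPullback_hom_snd] at h1
    exact (P.cancel_left_of_respectsIso _ _).1 h1
  have h3 : P (I.π ∣_ (hU x).fromSpec.opensRange) :=
    (P.arrow_mk_iso_iff (morphismRestrictOpensRange I.π (hU x).fromSpec)).2 h2
  rwa [(hU x).opensRange_fromSpec] at h3

instance isFinite_π : IsFinite I.π := I.prop_π @IsFinite fun i U hU h => by
  haveI := finite_ring' I.hd (ro h (I.θ i))
  rw [IsFinite.SpecMap_iff]
  exact RingHom.finite_algebraMap.2 inferInstance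

instance flat_π : Flat I.π := I.prop_π @Flat fun i U hU h => by
  haveI := free_ring' I.hd (ro h (I.θ i))
  rw [Flat.SpecMap_iff]
  exact RingHom.flat_algebraMap_iff.2 inferInstance

instance lfp_π : LocallyOfFinitePresentation I.π := I.prop_π @LocallyOfFinitePresentation fun i U hU h => by
  rw [HasRingHomProperty.Spec_iff (P := @LocallyOfFinitePresentation)]
  exact RingHom.finitePresentation_algebraMap.2 inferInstance

theorem finrank_π (x : X) : I.π.finrank x = I.d := by
  obtain ⟨U, i, hU, hxU, h⟩ := I.exists_nhd x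
  obtain ⟨y, rfl⟩ : ∃ y, hU.fromSpec y = x := by
    rw [← hU.opensRange_fromSpec] at hxU
    exact hxU
  rw [← Scheme.Hom.finrank_of_isPullback _ _ _ _ (I.isPullback_chart hU).flip y]
  have e : Spec.map (I.data.str U hU) =
      Spec.map (I.evq i hU h).inv ≫ Spec.map (CommRingCat.ofHom (algebraMap Γ(X, U) (I.Q i U h))) := by
    rw [← I.str_evq i hU h, ← Spec.map_comp, Category.assoc, Iso.hom_inv_id, Category.comp_id]
  haveI := free_ring' I.hd (ro h (I.θ i))
  haveI := finite_ring' I.hd (ro h (I.θ i))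
  haveI : IsFinite (Spec.map (CommRingCat.ofHom (algebraMap Γ(X, U) (I.Q i U h)))) := by
    rw [IsFinite.SpecMap_iff]; exact RingHom.finite_algebraMap.2 inferInstance
  haveI : Flat (Spec.map (CommRingCat.ofHom (algebraMap Γ(X, U) (I.Q i U h)))) := by
    rw [Flat.SpecMap_iff]; exact RingHom.flat_algebraMap_iff.2 inferInstance
  rw [e, Scheme.Hom.finrank_comp_left_of_isIso, Scheme.Hom.finrank_SpecMap_algebraMap]
  exact rankAtStalk_ring' I.hd _ _

theorem isFinLocFreeOfDeg_π : Mor2.IsFinLocFreeOfDeg I.d I.π :=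
  ⟨⟨inferInstance, inferInstance, inferInstance⟩, I.finrank_π⟩

theorem etale_π (hdu : IsUnit ((I.d : ℕ) : Γ(X, ⊤))) : Etale I.π := I.prop_π @Etale fun i U hU h => by
  rw [HasRingHomProperty.Spec_iff (P := @Etale)]
  refine RingHom.etale_algebraMap.2 (etale_ring' I.hd ((I.hθ i).map _) ?_)
  rw [← map_natCast (X.presheaf.map (homOfLE (le_top : U ≤ ⊤)).op).hom I.d]
  exact hdu.map _

theorem surjective_π : Surjective I.π :=
  (Scheme.Hom.one_le_finrank_iff_surjective I.π).1 fun x => by rw [I.finrank_π x]; exact I.hd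

end Groth.L02.CycCover.Input
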