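import Mathlib.RingTheory.AdjoinRoot
import Mathlib.RingTheory.Localization.Away.Basic
import Mathlib.RingTheory.Etale.StandardEtale
import Mathlib.RingTheory.Etale.Basic
import Mathlib.RingTheory.Spectrum.Prime.FreeLocus

/-!
# The algebra `R[T]/(T^d - θ)`
-/

set_option autoImplicit false

universe u

open Polynomial

noncomputable section

namespace Groth.L02.CycCover

variable {R S : Type u} [CommRing R] [CommRing S] {d : ℕ}

/-- The defining polynomial. -/
abbrev pol (d : ℕ) (θ : R) : R[X] := X ^ d - C θ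

/-- The algebra `R[T]/(T^d - θ)`. -/
abbrev Ring' (d : ℕ) (θ : R) : Type u := AdjoinRoot (pol d θ)

theorem monic_pol (hd : 0 < d) (θ : R) : (pol d θ).Monic := monic_X_pow_sub_C θ hd.ne'

theorem root_pow (θ : R) : AdjoinRoot.root (pol d θ) ^ d = AdjoinRoot.of (pol d θ) θ := by
  have h : AdjoinRoot.mk (pol d θ) (pol d θ) = 0 := AdjoinRoot.mk_self
  rwa [map_sub, map_pow, AdjoinRoot.mk_X, AdjoinRoot.mk_C, sub_eq_zero] at h

theorem hom_ext' {T : Type u} [CommRing T] {θ : R} {φ ψ : Ring' d θ →+* T}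
    (h1 : ∀ a, φ (AdjoinRoot.of _ a) = ψ (AdjoinRoot.of _ a))
    (h2 : φ (AdjoinRoot.root _) = ψ (AdjoinRoot.root _)) : φ = ψ := by
  refine Ideal.Quotient.ringHom_ext (Polynomial.ringHom_ext (fun a => h1 a) h2)

/-- Base change of the algebra, rescaling the root by `c`. -/
def bc (f : R →+* S) {θ : R} {θ' : S} (c : S) (h : f θ = c ^ d * θ') : Ring' d θ →+* Ring' d θ' :=
  AdjoinRoot.lift ((AdjoinRoot.of (pol d θ')).comp f) (AdjoinRoot.of _ c * AdjoinRoot.root _) (by
    rw [eval₂_sub, eval₂_pow, eval₂_X, eval₂_C, mul_pow, root_pow, ← map_pow, ← map_mul, RingHom.comp_apply, h,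
      sub_self])

@[simp] theorem bc_of (f : R →+* S) {θ : R} {θ' : S} (c : S) (h : f θ = c ^ d * θ') (a : R) :
    bc f c h (AdjoinRoot.of _ a) = AdjoinRoot.of _ (f a) := AdjoinRoot.lift_of _

@[simp] theorem bc_root (f : R →+* S) {θ : R} {θ' : S} (c : S) (h : f θ = c ^ d * θ') :
    bc f c h (AdjoinRoot.root _) = AdjoinRoot.of _ c * AdjoinRoot.root _ := AdjoinRoot.lift_root _

theorem bc_comp {T : Type u} [CommRing T] (f : R →+* S) (g : S →+* T) (fg : R →+* T) {θ : R} {θ' : S} {θ'' : T}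
    (c : S) (c' e : T) (h : f θ = c ^ d * θ') (h' : g θ' = c' ^ d * θ'') (hh : fg θ = e ^ d * θ'')
    (hfg : ∀ a, g (f a) = fg a) (he : e = g c * c') (a : Ring' d θ) : bc g c' h' (bc f c h a) = bc fg e hh a := by
  refine RingHom.congr_fun (hom_ext' (φ := (bc g c' h').comp (bc f c h)) (ψ := bc fg e hh) ?_ ?_) a
  · intro b; simp [hfg]
  · simp only [RingHom.comp_apply, bc_root, map_mul, bc_of, he, mul_assoc]

theorem bc_eq_self (f : R →+* R) {θ : R} (c : R) (h : f θ = c ^ d * θ) (hf : ∀ a, f a = a) (hc : c = 1)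
    (a : Ring' d θ) : bc f c h a = a := by
  refine RingHom.congr_fun (hom_ext' (φ := bc f c h) (ψ := RingHom.id _) ?_ ?_) a
  · intro b; simp [hf]
  · simp [hc]

/-- The coefficients. -/
def cf (hd : 0 < d) {θ : R} (k : ℕ) (a : Ring' d θ) : R := (AdjoinRoot.modByMonicHom (monic_pol hd θ) a).coeff k

theorem eq_sum (hd : 0 < d) {θ : R} (a : Ring' d θ) :
    a = ∑ k ∈ Finset.range d, AdjoinRoot.of _ (cf hd k a) * AdjoinRoot.root _ ^ k := by
  rcases subsingleton_or_nontrivial R with hR | hR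
  · haveI := Module.subsingleton R (Ring' d θ)
    exact Subsingleton.elim _ _
  conv_lhs => rw [← AdjoinRoot.mk_leftInverse (monic_pol hd θ) a]
  have hdeg : (AdjoinRoot.modByMonicHom (monic_pol hd θ) a).natDegree < d := by
    obtain ⟨p, rfl⟩ := AdjoinRoot.mk_surjective a
    rw [AdjoinRoot.modByMonicHom_mk]
    have hne : pol d θ ≠ 1 := by
      intro h
      have h2 := congrArg Polynomial.natDegree h
      rw [natDegree_X_pow_sub_C, natDegree_one] at h2
      omega
    exact lt_of_lt_of_le (natDegree_modByMonic_lt p (monic_pol hd θ) hne) (natDegree_X_pow_sub_C).le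
  rw [Polynomial.as_sum_range' _ d hdeg, map_sum]
  refine Finset.sum_congr rfl fun k _ => ?_
  rw [← C_mul_X_pow_eq_monomial, map_mul, map_pow, AdjoinRoot.mk_X, AdjoinRoot.mk_C]
  rfl

theorem cf_sum (hd : 0 < d) {θ : R} (c : ℕ → R) {l : ℕ} (hl : l < d) :
    cf hd (θ := θ) l (∑ k ∈ Finset.range d, AdjoinRoot.of _ (c k) * AdjoinRoot.root _ ^ k) = c l := by
  nontriviality R
  have h : (∑ k ∈ Finset.range d, AdjoinRoot.of (pol d θ) (c k) * AdjoinRoot.root _ ^ k) =
      AdjoinRoot.mk _ (∑ k ∈ Finset.range d, monomial k (c k)) := by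
    rw [map_sum]
    refine Finset.sum_congr rfl fun k _ => ?_
    rw [← C_mul_X_pow_eq_monomial, map_mul, map_pow, AdjoinRoot.mk_X, AdjoinRoot.mk_C]
  rw [cf, h, AdjoinRoot.modByMonicHom_mk, (modByMonic_eq_self_iff (monic_pol hd θ)).2]
  · rw [finsetSum_coeff, Finset.sum_eq_single_of_mem l (Finset.mem_range.2 hl)]
    · simp
    · intro k _ hk; simp [coeff_monomial, hk]
  · rw [degree_X_pow_sub_C hd]
    refine lt_of_le_of_lt (degree_sum_le _ _) ((Finset.sup_lt_iff (WithBot.bot_lt_coe d)).2 fun k hk => ?_)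
    exact lt_of_le_of_lt (degree_monomial_le _ _) (WithBot.coe_lt_coe.2 (Finset.mem_range.1 hk))

theorem cf_zero (hd : 0 < d) {θ : R} (k : ℕ) : cf hd k (0 : Ring' d θ) = 0 := by
  rw [cf, map_zero, coeff_zero]

theorem cf_bc (hd : 0 < d) (f : R →+* S) {θ : R} {θ' : S} (c : S) (h : f θ = c ^ d * θ') (a : Ring' d θ) {l : ℕ}
    (hl : l < d) : cf hd l (bc f c h a) = f (cf hd l a) * c ^ l := by
  have : bc f c h a = ∑ k ∈ Finset.range d, AdjoinRoot.of _ (f (cf hd k a) * c ^ k) * AdjoinRoot.root _ ^ k := by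
    conv_lhs => rw [eq_sum hd a]
    rw [map_sum]
    refine Finset.sum_congr rfl fun k _ => ?_
    simp [mul_pow, mul_assoc]
  rw [this, cf_sum hd (fun k => f (cf hd k a) * c ^ k) hl]

theorem ext_cf (hd : 0 < d) {θ : R} {a b : Ring' d θ} (h : ∀ k < d, cf hd k a = cf hd k b) : a = b := by
  rw [eq_sum hd a, eq_sum hd b]
  exact Finset.sum_congr rfl fun k hk => by rw [h k (Finset.mem_range.1 hk)]

/-- Rescaling by a unit is bijective. -/
theorem isUnit_root (hd : 0 < d) {θ : R} (hθ : IsUnit θ) : IsUnit (AdjoinRoot.root (pol d θ)) :=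
  (isUnit_pow_iff hd.ne').1 (by rw [root_pow]; exact hθ.map _)

section Localization

variable [Algebra R S] (r : R) [IsLocalization.Away r S]

theorem bc_injective_away (hd : 0 < d) {θ : R} {θ' : S} (h : algebraMap R S θ = (1 : S) ^ d * θ')
    (a : Ring' d θ) (ha : bc (algebraMap R S) 1 h a = 0) : ∃ n : ℕ, AdjoinRoot.of _ r ^ n * a = 0 := by
  classical
  have hk : ∀ k : ℕ, ∃ n : ℕ, k < d → r ^ n * cf hd k a = 0 := fun k => by
    by_cases hkd : k < d
    · have h0 : algebraMap R S (cf hd k a) = 0 := by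
        have h1 := cf_bc hd (algebraMap R S) 1 h a hkd
        rw [ha, cf_zero, one_pow, mul_one] at h1
        exact h1.symm
      obtain ⟨⟨_, n, rfl⟩, hn⟩ := (IsLocalization.map_eq_zero_iff (Submonoid.powers r) S _).1 h0
      exact ⟨n, fun _ => hn⟩
    · exact ⟨0, fun h => absurd h hkd⟩
  choose n hn using hk
  refine ⟨∑ k ∈ Finset.range d, n k, ?_⟩
  conv_lhs => rw [eq_sum hd a, Finset.mul_sum]
  refine Finset.sum_eq_zero fun k hk => ?_
  obtain ⟨m, hm⟩ := Nat.exists_eq_add_of_le (Finset.single_le_sum (f := n) (fun _ _ => Nat.zero_le _) hk)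
  rw [hm, pow_add, ← mul_assoc, mul_comm (_ ^ n k) (_ ^ m), mul_assoc (_ ^ m), ← map_pow _ r (n k), ← map_mul,
    hn k (Finset.mem_range.1 hk), map_zero, mul_zero, zero_mul]

theorem bc_surjective_away {θ : R} {θ' : S} (h : algebraMap R S θ = (1 : S) ^ d * θ') (b : Ring' d θ') :
    ∃ (n : ℕ) (a : Ring' d θ), AdjoinRoot.of _ (algebraMap R S r) ^ n * b = bc (algebraMap R S) 1 h a := by
  obtain ⟨p, rfl⟩ := AdjoinRoot.mk_surjective b
  induction p using Polynomial.induction_on' with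
  | add p q hp hq =>
    obtain ⟨n, a, ha⟩ := hp
    obtain ⟨m, a', ha'⟩ := hq
    refine ⟨n + m, AdjoinRoot.of _ r ^ m * a + AdjoinRoot.of _ r ^ n * a', ?_⟩
    rw [map_add, map_add, map_mul, map_mul, map_pow, map_pow, bc_of, ← ha, ← ha']
    ring
  | monomial k c =>
    obtain ⟨⟨x, _, n, rfl⟩, hx⟩ := IsLocalization.surj (Submonoid.powers r) c
    refine ⟨n, AdjoinRoot.of _ x * AdjoinRoot.root _ ^ k, ?_⟩
    have hx' : c * algebraMap R S r ^ n = algebraMap R S x := by rw [← map_pow]; exact hx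
    rw [map_mul, bc_of, map_pow, bc_root, map_one, one_mul, ← hx', map_mul, map_pow, ← C_mul_X_pow_eq_monomial,
      map_mul, map_pow, AdjoinRoot.mk_X, AdjoinRoot.mk_C]
    ring

end Localization

theorem finite_ring' (hd : 0 < d) (θ : R) : Module.Finite R (Ring' d θ) := (monic_pol hd θ).finite_adjoinRoot

theorem free_ring' (hd : 0 < d) (θ : R) : Module.Free R (Ring' d θ) := (monic_pol hd θ).free_adjoinRoot

theorem rankAtStalk_ring' (hd : 0 < d) (θ : R) (p : PrimeSpectrum R) : Module.rankAtStalk (Ring' d θ) p = d := by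
  haveI : Nontrivial R := p.nontrivial
  haveI := free_ring' hd θ
  haveI := finite_ring' hd θ
  rw [Module.rankAtStalk_eq_finrank_of_free, Pi.natCast_apply]
  exact ((AdjoinRoot.powerBasis' (monic_pol hd θ)).finrank).trans natDegree_X_pow_sub_C

theorem etale_ring' (hd : 0 < d) {θ : R} (hθ : IsUnit θ) (hdu : IsUnit (d : R)) : Algebra.Etale R (Ring' d θ) := by
  obtain ⟨a, ha⟩ := (hdu.mul hθ).exists_left_inv
  obtain ⟨b, hb⟩ := hθ.exists_left_inv
  let P : StandardEtalePair R :=
    { f := pol d θ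
      monic_f := monic_pol hd θ
      g := 1
      cond := ⟨C a * X, - C b, 0, by
        rw [pow_zero, derivative_sub, derivative_X_pow, derivative_C, sub_zero, pol]
        have hX : (X : R[X]) ^ (d - 1) * X = X ^ d := by rw [← pow_succ, Nat.sub_add_cancel hd]
        have e1 : (d : R) * a = b := by
          calc (d : R) * a = (d : R) * a * (b * θ) := by rw [hb, mul_one]
            _ = a * ((d : R) * θ) * b := by ring
            _ = b := by rw [ha, one_mul]
        calc C (d : R) * X ^ (d - 1) * (C a * X) + (X ^ d - C θ) * -C b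
            = C ((d : R) * a) * (X ^ (d - 1) * X) - C b * X ^ d + C (b * θ) := by
              rw [map_mul, map_mul]; ring
          _ = 1 := by rw [hX, e1, hb, map_one]; ring⟩ }
  have hg : IsUnit (AdjoinRoot.mk P.f P.g) := by simp [P]
  exact Algebra.Etale.of_equiv (P.equivAwayAdjoinRoot.trans
    ((IsLocalization.atUnits (AdjoinRoot P.f) (Submonoid.powers (AdjoinRoot.mk P.f P.g))
      (Submonoid.powers_le.2 hg)).restrictScalars R).symm)

end Groth.L02.CycCover
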