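import Groth.Agent.L02.CycCover.Cover

/-!
# Functions on the cyclic cover
-/

set_option autoImplicit false
set_option linter.style.haveILetI false

universe u

open CategoryTheory CategoryTheory.Limits AlgebraicGeometry TopologicalSpace Opposite
open Groth.L18.Frame (ro ro_ro ro_self ro_mul)

noncomputable section

namespace Groth.L02.CycCover

/-- Sections agreeing on the affine opens inside are equal. -/
theorem eq_of_affines {X Y : Scheme.{u}} (f : Y ⟶ X) {W : X.Opens} (s t : Γ(Y, f ⁻¹ᵁ W))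
    (h : ∀ V : X.Opens, IsAffineOpen V → ∀ hV : V ≤ W,
      ro (f.preimage_mono hV) s = ro (f.preimage_mono hV) t) : s = t := by
  refine Y.sheaf.eq_of_locally_eq' (fun V : {V : X.Opens // IsAffineOpen V ∧ V ≤ W} => f ⁻¹ᵁ V.1) (f ⁻¹ᵁ W)
    (fun V => homOfLE (f.preimage_mono V.2.2)) (fun y hy => ?_) s t fun V => h V.1 V.2.1 V.2.2
  obtain ⟨V, hV, hyV, hVW⟩ := exists_isAffineOpen_mem_and_subset (show f y ∈ W from hy)
  exact Opens.mem_iSup.2 ⟨⟨V, hV, hVW⟩, hyV⟩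

theorem eq_of_affines' {X : Scheme.{u}} {W : X.Opens} (s t : Γ(X, W))
    (h : ∀ V : X.Opens, IsAffineOpen V → ∀ hV : V ≤ W, ro hV s = ro hV t) : s = t := by
  refine X.sheaf.eq_of_locally_eq' (fun V : {V : X.Opens // IsAffineOpen V ∧ V ≤ W} => V.1) W
    (fun V => homOfLE V.2.2) (fun y hy => ?_) s t fun V => h V.1 V.2.1 V.2.2
  obtain ⟨V, hV, hyV, hVW⟩ := exists_isAffineOpen_mem_and_subset hy
  exact Opens.mem_iSup.2 ⟨⟨V, hV, hVW⟩, hyV⟩

namespace Input

variable {X : Scheme.{u}} (I : Input X) [AlgebraicGeometry.IsNoetherian X]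

/-- Functions over a chart. -/
def φ (i : I.ι) {U : X.Opens} (hU : IsAffineOpen U) (h : U ≤ I.W i) :
    Γ(I.cov, I.π ⁻¹ᵁ U) ≃+* I.Q i U h :=
  (I.data.evEquiv U hU).trans (RingEquiv.ofBijective (I.proj i h) (I.proj_bijective i h))

theorem φ_apply (i : I.ι) {U : X.Opens} (hU : IsAffineOpen U) (h : U ≤ I.W i) (z : Γ(I.cov, I.π ⁻¹ᵁ U)) :
    I.φ i hU h z = I.proj i h ((I.data.ev U hU).hom z) := rfl

theorem φ_app (i : I.ι) {U : X.Opens} (hU : IsAffineOpen U) (h : U ≤ I.W i) (a : Γ(X, U)) :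
    I.φ i hU h (I.π.app U a) = AdjoinRoot.of _ a := by
  rw [φ_apply]
  refine Eq.trans (congrArg (I.proj i h) ?_) (I.proj_str i h a)
  exact ConcreteCategory.congr_hom (I.data.str_ev U hU) a

theorem φ_res (i j : I.ι) {U V : X.Opens} (hU : IsAffineOpen U) (hV : IsAffineOpen V) (h : U ≤ I.W i) (h' : V ≤ I.W j)
    (hVU : V ≤ U) (z : Γ(I.cov, I.π ⁻¹ᵁ U)) :
    I.φ j hV h' (ro (I.π.preimage_mono hVU) z) = I.mp i j h h' hVU (I.φ i hU h z) := by
  rw [φ_apply, φ_apply, ← I.proj_res i j h h' hVU]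
  exact congrArg (I.proj j h') (I.data.ev_res hU hV hVU z)

theorem cf_mp (i j : I.ι) {U V : X.Opens} (h : U ≤ I.W i) (h' : V ≤ I.W j) (hVU : V ≤ U) (a : I.Q i U h) {k : ℕ}
    (hk : k < I.d) :
    cf I.hd k (I.mp i j h h' hVU a) = ro hVU (cf I.hd k a) * ro (le_inf (hVU.trans h) h') (I.g i j) ^ k :=
  cf_bc I.hd _ _ _ a hk

/-- The coefficient of a section on a chart. -/
def coef (i : I.ι) {W : X.Opens} (z : Γ(I.cov, I.π ⁻¹ᵁ W)) (k : ℕ) {V : X.Opens} (hV : IsAffineOpen V) (hVW : V ≤ W)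
    (h : V ≤ I.W i) : Γ(X, V) :=
  cf I.hd k (I.φ i hV h (ro (I.π.preimage_mono hVW) z))

theorem coef_ro (i j : I.ι) {W : X.Opens} (z : Γ(I.cov, I.π ⁻¹ᵁ W)) {k : ℕ} (hk : k < I.d) {V V' : X.Opens}
    (hV : IsAffineOpen V) (hV' : IsAffineOpen V') (hVW : V ≤ W) (h : V ≤ I.W i) (h' : V' ≤ I.W j) (hV'V : V' ≤ V) :
    I.coef j z k hV' (hV'V.trans hVW) h' =
      ro hV'V (I.coef i z k hV hVW h) * ro (le_inf (hV'V.trans h) h') (I.g i j) ^ k := by
  rw [coef, coef, ← I.cf_mp i j h h' hV'V _ hk, ← I.φ_res i j hV hV' h h' hV'V, ro_ro]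

theorem exists_coef (i : I.ι) {W : X.Opens} (z : Γ(I.cov, I.π ⁻¹ᵁ W)) {k : ℕ} (hk : k < I.d) :
    ∃ c : Γ(X, W ⊓ I.W i), ∀ (V : X.Opens) (hV : IsAffineOpen V) (h : V ≤ W ⊓ I.W i),
      ro h c = I.coef i z k hV (h.trans inf_le_left) (h.trans inf_le_right) := by
  let P := {V : X.Opens // IsAffineOpen V ∧ V ≤ W ⊓ I.W i}
  let c : ∀ V : P, Γ(X, V.1) := fun V => I.coef i z k V.2.1 (V.2.2.trans inf_le_left) (V.2.2.trans inf_le_right)
  have hc : ∀ (V : P) (V' : X.Opens) (hV' : IsAffineOpen V') (h : V' ≤ V.1),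
      ro h (c V) = I.coef i z k hV' ((h.trans V.2.2).trans inf_le_left) ((h.trans V.2.2).trans inf_le_right) :=
    fun V V' hV' h => by
      rw [I.coef_ro i i z hk V.2.1 hV' (V.2.2.trans inf_le_left) (V.2.2.trans inf_le_right)
        ((h.trans V.2.2).trans inf_le_right) h, I.g_self]
      simp [c, ro]
  obtain ⟨C, hC, -⟩ := X.sheaf.existsUnique_gluing' (fun V : P => V.1) (W ⊓ I.W i) (fun V => homOfLE V.2.2)
    (fun x hx => by
      obtain ⟨V, hV, hxV, hVW⟩ := exists_isAffineOpen_mem_and_subset hx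
      exact Opens.mem_iSup.2 ⟨⟨V, hV, hVW⟩, hxV⟩) c fun V₁ V₂ => by
    refine eq_of_affines' _ _ fun V hV hVle => ?_
    show ro hVle (ro inf_le_left (c V₁)) = ro hVle (ro inf_le_right (c V₂))
    rw [ro_ro, ro_ro, hc V₁ V hV _, hc V₂ V hV _]
  exact ⟨C, fun V hV h => hC ⟨V, hV, h⟩⟩

/-- If the higher coefficients vanish and the constant ones come from `a`, then the section is the pullback of `a`. -/
theorem eq_app_of_coef {W : X.Opens} (z : Γ(I.cov, I.π ⁻¹ᵁ W)) (a : Γ(X, W))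
    (h : ∀ (i : I.ι) (V : X.Opens) (hV : IsAffineOpen V) (hVW : V ≤ W) (hi : V ≤ I.W i),
      I.coef i z 0 hV hVW hi = ro hVW a ∧ ∀ k, 0 < k → k < I.d → I.coef i z k hV hVW hi = 0) :
    z = I.π.app W a := by
  refine eq_of_affines I.π _ _ fun V hV hVW => ?_
  by_cases hne : ∃ x, x ∈ V
  · -- refine to charts
    let P := {U : X.Opens // IsAffineOpen U ∧ U ≤ V ∧ ∃ i, U ≤ I.W i}
    refine I.cov.sheaf.eq_of_locally_eq' (fun U : P => I.π ⁻¹ᵁ U.1) (I.π ⁻¹ᵁ V)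
      (fun U => homOfLE (I.π.preimage_mono U.2.2.1)) (fun y hy => ?_) _ _ fun ⟨U, hU, hUV, i, hi⟩ => ?_
    · obtain ⟨i, hi⟩ := I.cover (I.π y)
      obtain ⟨U, hU, hyU, hUV⟩ := exists_isAffineOpen_mem_and_subset
        (show I.π y ∈ V ⊓ I.W i from ⟨hy, hi⟩)
      exact Opens.mem_iSup.2 ⟨⟨U, hU, hUV.trans inf_le_left, i, hUV.trans inf_le_right⟩, hyU⟩
    · show ro (I.π.preimage_mono hUV) (ro _ z) = ro (I.π.preimage_mono hUV) (ro _ (I.π.app W a))
      rw [ro_ro, ro_ro]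
      have hnat : ro (I.π.preimage_mono (hUV.trans hVW)) (I.π.app W a) = I.π.app U (ro (hUV.trans hVW) a) :=
        (ConcreteCategory.congr_hom (I.π.naturality (homOfLE (hUV.trans hVW)).op) a).symm
      rw [hnat]
      apply (I.φ i hU hi).injective
      rw [φ_app]
      obtain ⟨h0, hk⟩ := h i U hU (hUV.trans hVW) hi
      refine (eq_sum I.hd _).trans ?_
      rw [Finset.sum_eq_single_of_mem 0 (Finset.mem_range.2 I.hd)]
      · rw [pow_zero, mul_one]
        exact congrArg _ h0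
      · intro k hk' hk0
        have := hk k (Nat.pos_of_ne_zero hk0) (Finset.mem_range.1 hk')
        rw [coef] at this
        rw [this, map_zero, zero_mul]
  · haveI : Subsingleton Γ(I.cov, I.π ⁻¹ᵁ V) := by
      have : I.π ⁻¹ᵁ V = ⊥ := Opens.ext (Set.eq_empty_iff_forall_notMem.2 fun y hy => hne ⟨_, hy⟩)
      rw [this]
      infer_instance
    exact Subsingleton.elim _ _

/-- The root on a chart. -/
def sec (i : I.ι) {U : X.Opens} (hU : IsAffineOpen U) (h : U ≤ I.W i) : Γ(I.cov, I.π ⁻¹ᵁ U) :=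
  (I.φ i hU h).symm (AdjoinRoot.root _)

theorem isUnit_sec (i : I.ι) {U : X.Opens} (hU : IsAffineOpen U) (h : U ≤ I.W i) : IsUnit (I.sec i hU h) :=
  (isUnit_root I.hd ((I.hθ i).map _)).map (I.φ i hU h).symm

theorem sec_compat (i j : I.ι) {U U' : X.Opens} (hU : IsAffineOpen U) (hU' : IsAffineOpen U') (h : U ≤ I.W i)
    (h' : U' ≤ I.W j) :
    ro (I.π.preimage_mono (inf_le_left : U ⊓ U' ≤ U)) (I.sec i hU h) =
      I.π.app (U ⊓ U') (ro (inf_le_inf h h') (I.g i j)) *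
        ro (I.π.preimage_mono (inf_le_right : U ⊓ U' ≤ U')) (I.sec j hU' h') := by
  refine eq_of_affines I.π _ _ fun V hV hVU => ?_
  have hnat : ro (I.π.preimage_mono hVU) (I.π.app (U ⊓ U') (ro (inf_le_inf h h') (I.g i j))) =
      I.π.app V (ro hVU (ro (inf_le_inf h h') (I.g i j))) :=
    (ConcreteCategory.congr_hom (I.π.naturality (homOfLE hVU).op) _).symm
  rw [ro_mul, hnat, ro_ro, ro_ro, ro_ro]
  apply (I.φ j hV ((hVU.trans inf_le_right).trans h')).injective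
  rw [map_mul, φ_app, I.φ_res i j hU hV h _ (hVU.trans inf_le_left), I.φ_res j j hU' hV h' _ (hVU.trans inf_le_right),
    sec, sec, RingEquiv.apply_symm_apply, RingEquiv.apply_symm_apply, mp_root, mp_root, I.g_self]
  simp [ro]

end Input

end Groth.L02.CycCover
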